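import Cfsg.Agent.Lib.StructC.Conway.Co0TwoData
import Mathlib.Tactic.IntervalCases

/-!
Checks of the certificate `Co0Two`.
-/

set_option autoImplicit false
set_option maxRecDepth 100000
set_option maxRecDepth 100000
set_option Elab.async false

namespace CfsgLib.StructC.Conway.Co0Two

open Cfsg CfsgLib.Golay
open CfsgLib.KnownA.SchurCert (bitOps modOps)
open CfsgLib.KnownA.SchurCert.Co3Cert (triOps idR rho)
open CfsgLib.StructC.ConwayRep CfsgLib.StructC.ConwayKer

theorem base_ok : baseOK false cert mods mats chain = true := by decide +kernel

theorem rels0_ok : relsPart false cert mods 0 20 = true := by decide +kernel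

theorem rels1_ok : relsPart false cert mods 20 20 = true := by decide +kernel

theorem rels2_ok : relsPart false cert mods 40 20 = true := by decide +kernel

theorem rels3_ok : relsPart false cert mods 60 20 = true := by decide +kernel

theorem rels4_ok : relsPart false cert mods 80 20 = true := by decide +kernel

theorem rels5_ok : relsPart false cert mods 100 20 = true := by decide +kernel

theorem rels6_ok : relsPart false cert mods 120 20 = true := by decide +kernel

theorem rels7_ok : relsPart false cert mods 140 20 = true := by decide +kernel

theorem rels8_ok : relsPart false cert mods 160 20 = true := by decide +kernel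

theorem rels9_ok : relsPart false cert mods 180 20 = true := by decide +kernel

theorem rels10_ok : relsPart false cert mods 200 20 = true := by decide +kernel

theorem rels11_ok : relsPart false cert mods 220 20 = true := by decide +kernel

theorem rels12_ok : relsPart false cert mods 240 20 = true := by decide +kernel

theorem rels13_ok : relsPart false cert mods 260 20 = true := by decide +kernel

theorem rels14_ok : relsPart false cert mods 280 20 = true := by decide +kernel

theorem rels15_ok : relsPart false cert mods 300 20 = true := by decide +kernel

theorem rels16_ok : relsPart false cert mods 320 18 = true := by decide +kernel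

theorem rels_ok : relsPart false cert mods 0 cert.rels.length = true := by
  refine relsPart_of_parts false cert mods 20 17 338 (by norm_num) (by decide +kernel) (by norm_num) fun j hj => ?_
  interval_cases j
  · exact rels0_ok
  · exact rels1_ok
  · exact rels2_ok
  · exact rels3_ok
  · exact rels4_ok
  · exact rels5_ok
  · exact rels6_ok
  · exact rels7_ok
  · exact rels8_ok
  · exact rels9_ok
  · exact rels10_ok
  · exact rels11_ok
  · exact rels12_ok
  · exact rels13_ok
  · exact rels14_ok
  · exact rels15_ok
  · exact rels16_ok

theorem mat0_ok : matRows mat0 (mods.getD 0 idR) = true := by decide +kernel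

theorem mat1_ok : matRows mat1 (mods.getD 1 idR) = true := by decide +kernel

theorem mat2_ok : matRows mat2 (mods.getD 2 idR) = true := by decide +kernel

theorem mat3_ok : matRows mat3 (mods.getD 3 idR) = true := by decide +kernel

theorem mat4_ok : matRows mat4 (mods.getD 4 idR) = true := by decide +kernel

theorem mat22_ok : matRows mat22 (mods.getD 22 idR) = true := by decide +kernel

theorem mat23_ok : matRows mat23 (mods.getD 23 idR) = true := by decide +kernel

theorem mat24_ok : matRows mat24 (mods.getD 24 idR) = true := by decide +kernel

theorem mat25_ok : matRows mat25 (mods.getD 25 idR) = true := by decide +kernel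

theorem mat26_ok : matRows mat26 (mods.getD 26 idR) = true := by decide +kernel

theorem mat27_ok : matRows mat27 (mods.getD 27 idR) = true := by decide +kernel

theorem mats_ok : ∀ e ∈ mats, ∃ g : (⊤ : Subgroup Co0), rho (g : Co0) = rmat (mods.getD e.1 idR) := by
  simp only [mats, List.forall_mem_cons]
  exact ⟨exists_of_mats mat0_ok, exists_of_mats mat1_ok, exists_of_mats mat2_ok, exists_of_mats mat3_ok, exists_of_mats mat4_ok, exists_of_mats mat22_ok, exists_of_mats mat23_ok, exists_of_mats mat24_ok, exists_of_mats mat25_ok, exists_of_mats mat26_ok, exists_of_mats mat27_ok, fun _ h => absurd h List.not_mem_nil⟩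

theorem loops0_ok : cert.loopsPart bitOps vecs 0 20 = true := by decide +kernel

theorem loops1_ok : cert.loopsPart bitOps vecs 20 20 = true := by decide +kernel

theorem loops2_ok : cert.loopsPart bitOps vecs 40 20 = true := by decide +kernel

theorem loops3_ok : cert.loopsPart bitOps vecs 60 20 = true := by decide +kernel

theorem loops4_ok : cert.loopsPart bitOps vecs 80 20 = true := by decide +kernel

theorem loops5_ok : cert.loopsPart bitOps vecs 100 20 = true := by decide +kernel

theorem loops6_ok : cert.loopsPart bitOps vecs 120 20 = true := by decide +kernel

theorem loops7_ok : cert.loopsPart bitOps vecs 140 20 = true := by decide +kernel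

theorem loops8_ok : cert.loopsPart bitOps vecs 160 20 = true := by decide +kernel

theorem loops9_ok : cert.loopsPart bitOps vecs 180 20 = true := by decide +kernel

theorem loops10_ok : cert.loopsPart bitOps vecs 200 20 = true := by decide +kernel

theorem loops11_ok : cert.loopsPart bitOps vecs 220 20 = true := by decide +kernel

theorem loops12_ok : cert.loopsPart bitOps vecs 240 20 = true := by decide +kernel

theorem loops13_ok : cert.loopsPart bitOps vecs 260 15 = true := by decide +kernel

theorem loops_ok : cert.loopsOK bitOps vecs := by
  refine loopsOK_of_parts bitOps cert vecs 20 14 (by norm_num) (by decide +kernel) (by decide +kernel) fun j hj => ?_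
  interval_cases j
  · exact loops0_ok
  · exact loops1_ok
  · exact loops2_ok
  · exact loops3_ok
  · exact loops4_ok
  · exact loops5_ok
  · exact loops6_ok
  · exact loops7_ok
  · exact loops8_ok
  · exact loops9_ok
  · exact loops10_ok
  · exact loops11_ok
  · exact loops12_ok
  · exact loops13_ok

theorem final_ok : cert.finalOK bitOps vecs = true := by decide +kernel

end CfsgLib.StructC.Conway.Co0Two
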