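import Cfsg.Agent.Lib.StructC.Conway.Co1SevenData
import Mathlib.Tactic.IntervalCases

/-!
Checks of the certificate `Co1Seven`.
-/

set_option autoImplicit false
set_option maxRecDepth 20000
set_option maxRecDepth 100000
set_option Elab.async false

namespace CfsgLib.StructC.Conway.Co1Seven

open Cfsg CfsgLib.Golay
open CfsgLib.KnownA.SchurCert (bitOps modOps)
open CfsgLib.KnownA.SchurCert.Co3Cert (triOps idR rho)
open CfsgLib.StructC.ConwayRep CfsgLib.StructC.ConwayKer

theorem base_ok : baseOK true cert mods mats chain = true := by decide +kernel

theorem rels_ok : relsPart true cert mods 0 cert.rels.length = true := by decide +kernel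

theorem mat0_ok : matRows mat0 (mods.getD 0 idR) = true := by decide +kernel

theorem mat1_ok : matRows mat1 (mods.getD 1 idR) = true := by decide +kernel

theorem mat2_ok : matRows mat2 (mods.getD 2 idR) = true := by decide +kernel

theorem mat3_ok : matRows mat3 (mods.getD 3 idR) = true := by decide +kernel

theorem mats_ok : ∀ e ∈ mats, ∃ g : (⊤ : Subgroup Co0), rho (g : Co0) = rmat (mods.getD e.1 idR) := by
  simp only [mats, List.forall_mem_cons]
  exact ⟨exists_of_mats mat0_ok, exists_of_mats mat1_ok, exists_of_mats mat2_ok, exists_of_mats mat3_ok, fun _ h => absurd h List.not_mem_nil⟩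

theorem loops0_ok : cert.loopsPart (modOps 7 7) vecs 0 3 = true := by decide +kernel

theorem loops_ok : cert.loopsOK (modOps 7 7) vecs := by
  refine loopsOK_of_parts (modOps 7 7) cert vecs 1000 1 (by norm_num) (by decide +kernel) (by decide +kernel) fun j hj => ?_
  interval_cases j
  · exact loops0_ok

theorem final_ok : cert.finalOK (modOps 7 7) vecs = true := by decide +kernel

end CfsgLib.StructC.Conway.Co1Seven
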