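import Cfsg.Agent.Lib.StructC.Conway.Co0Two
import Cfsg.Agent.Lib.StructC.Conway.Co1Three
import Cfsg.Agent.Lib.StructC.Conway.Co1Five
import Cfsg.Agent.Lib.StructC.Conway.Co1Seven
import Cfsg.Agent.Lib.StructC.Conway.NegCommutator
import Cfsg.Agent.Lib.Golay.Co0Simple

/-!
The Schur multiplier of `Co0` is trivial and that of `Co1` is cyclic of order two.
-/

set_option autoImplicit false
set_option linter.style.haveILetI false

namespace CfsgLib.StructC.Conway

open Cfsg CfsgLib.Golay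
open CfsgLib.KnownA.SchurCert (bitOps modOps bitEv modEv multiplier_one)
open CfsgLib.KnownA.SchurCert.Co3Cert (triOps triEv rho rho_mul rho_inj)
open CfsgLib.StructC.ConwayKer CfsgLib.StructC.ConwayRep
open scoped commutatorElement

theorem prime_cases_co1 {p : ℕ} (hp : p.Prime) (h : p ∣ 4157776806543360000) :
    p = 2 ∨ p = 3 ∨ p = 5 ∨ p = 7 ∨ p = 11 ∨ p = 13 ∨ p = 23 := by
  rw [show (4157776806543360000 : ℕ) = 2 ^ 21 * (3 ^ 9 * (5 ^ 4 * (7 ^ 2 * (11 * (13 * 23))))) by
    norm_num] at h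
  have hd : ∀ q : ℕ, q.Prime → p ∣ q → p = q := fun q hq => (Nat.prime_dvd_prime_iff_eq hp hq).1
  rcases (Nat.Prime.dvd_mul hp).1 h with h | h
  · exact Or.inl (hd 2 (by norm_num) (hp.dvd_of_dvd_pow h))
  rcases (Nat.Prime.dvd_mul hp).1 h with h | h
  · exact Or.inr (Or.inl (hd 3 (by norm_num) (hp.dvd_of_dvd_pow h)))
  rcases (Nat.Prime.dvd_mul hp).1 h with h | h
  · exact Or.inr (Or.inr (Or.inl (hd 5 (by norm_num) (hp.dvd_of_dvd_pow h))))
  rcases (Nat.Prime.dvd_mul hp).1 h with h | h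
  · exact Or.inr (Or.inr (Or.inr (Or.inl (hd 7 (by norm_num) (hp.dvd_of_dvd_pow h)))))
  rcases (Nat.Prime.dvd_mul hp).1 h with h | h
  · exact Or.inr (Or.inr (Or.inr (Or.inr (Or.inl (hd 11 (by norm_num) h)))))
  rcases (Nat.Prime.dvd_mul hp).1 h with h | h
  · exact Or.inr (Or.inr (Or.inr (Or.inr (Or.inr (Or.inl (hd 13 (by norm_num) h))))))
  · exact Or.inr (Or.inr (Or.inr (Or.inr (Or.inr (Or.inr (hd 23 (by norm_num) h))))))

/-- Stem extensions of `Co1` with kernels of odd prime exponent are trivial. -/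
theorem ker_co1_odd {p : ℕ} (hp : p.Prime) (hdvd : p ∣ 4157776806543360000) (hp2 : p ≠ 2)
    {Γ : Type} [Group Γ] [Finite Γ] {σ : Γ →* Co0 ⧸ Subgroup.center Co0}
    (hσ : Cfsg.IsStemExtension σ) (hexp : ∀ x ∈ σ.ker, x ^ p = 1) : σ.ker = ⊥ := by
  haveI : Finite Co0 := Nat.finite_of_card_ne_zero (by rw [card_Co0]; norm_num)
  have hcyc : (∀ h : p = 11 ∨ p = 13 ∨ p = 23, σ.ker = ⊥) := fun h => by
    refine ker_eq_bot_sq hp (by rw [card_Co1]; exact hdvd) ?_ hσ hexp
    rw [card_Co1]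
    rcases h with rfl | rfl | rfl <;> norm_num
  rcases prime_cases_co1 hp hdvd with rfl | rfl | rfl | rfl | h | h | h
  · exact absurd rfl hp2
  · exact ker_eq_bot_quot triOps Co1Three.cert Nat.prime_three (fun τ h => ⟨triEv _ τ h⟩)
      Co1Three.mods Co1Three.mats Co1Three.chain Co1Three.base_ok Co1Three.mats_ok Co1Three.rels_ok
      (by decide +kernel) Co1Three.vecs Co1Three.loops_ok Co1Three.final_ok hσ hexp
  · exact ker_eq_bot_quot (modOps 5 17) Co1Five.cert Nat.prime_five
      (fun τ h => ⟨modEv 5 17 τ h⟩) Co1Five.mods Co1Five.mats Co1Five.chain Co1Five.base_ok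
      Co1Five.mats_ok Co1Five.rels_ok (by decide +kernel) Co1Five.vecs Co1Five.loops_ok
      Co1Five.final_ok hσ hexp
  · exact ker_eq_bot_quot (modOps 7 7) Co1Seven.cert (by decide +kernel : Nat.Prime 7)
      (fun τ h => ⟨modEv 7 7 τ h⟩) Co1Seven.mods Co1Seven.mats Co1Seven.chain Co1Seven.base_ok
      Co1Seven.mats_ok Co1Seven.rels_ok (by decide +kernel) Co1Seven.vecs Co1Seven.loops_ok
      Co1Seven.final_ok hσ hexp
  · exact hcyc (Or.inl h)
  · exact hcyc (Or.inr (Or.inl h))
  · exact hcyc (Or.inr (Or.inr h))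

theorem commutator_Co0_eq_top (h : negCo0 ∈ commutator Co0) : commutator Co0 = ⊤ := by
  haveI := isSimple_Co1
  haveI : Finite Co0 := Nat.finite_of_card_ne_zero (by rw [card_Co0]; norm_num)
  have hmap : (commutator Co0).map toCo1 = ⊤ := by
    rcases Subgroup.Normal.eq_bot_or_eq_top
      (Subgroup.Normal.map (inferInstance : (commutator Co0).Normal) toCo1 toCo1_surj) with h' | h'
    · exfalso
      have hcomm : ∀ a b : Co0 ⧸ Subgroup.center Co0, a * b = b * a := fun a b => by
        obtain ⟨a, rfl⟩ := toCo1_surj a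
        obtain ⟨b, rfl⟩ := toCo1_surj b
        rw [← commutatorElement_eq_one_iff_mul_comm, ← map_commutatorElement, ← Subgroup.mem_bot,
          ← h']
        exact Subgroup.mem_map_of_mem _
          (Subgroup.commutator_mem_commutator (Subgroup.mem_top a) (Subgroup.mem_top b))
      let _ : CommGroup (Co0 ⧸ Subgroup.center Co0) :=
        { (inferInstance : Group (Co0 ⧸ Subgroup.center Co0)) with mul_comm := hcomm }
      have := IsSimpleGroup.prime_card (α := Co0 ⧸ Subgroup.center Co0)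
      rw [card_Co1] at this
      exact absurd this (Nat.not_prime_of_dvd_of_ne (m := 2) (by norm_num) (by norm_num) (by norm_num))
    · exact h'
  rw [eq_top_iff]
  intro g _
  obtain ⟨c, hc, e⟩ : toCo1 g ∈ (commutator Co0).map toCo1 := hmap ▸ Subgroup.mem_top _
  rcases toCo1_sep _ _ e with e | e
  · rwa [← rho_inj e]
  · have : g = negCo0 * c := by
      refine rho_inj ?_
      rw [rho_mul, rho_negCo0, e, neg_one_mul, neg_neg]
    rw [this]
    exact Subgroup.mul_mem _ h hc

theorem prime_dvd_co0 {p : ℕ} (hp : p.Prime) (h : p ∣ 8315553613086720000) (hp2 : p ≠ 2) :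
    p ∣ 4157776806543360000 := by
  rw [show (8315553613086720000 : ℕ) = 2 * 4157776806543360000 by norm_num] at h
  rcases (Nat.Prime.dvd_mul hp).1 h with h | h
  · exact absurd ((Nat.prime_dvd_prime_iff_eq hp Nat.prime_two).1 h) hp2
  · exact h

theorem multiplier_Co0 : Cfsg.HasCyclicSchurMultiplier Co0 1 := by
  haveI : Finite Co0 := Nat.finite_of_card_ne_zero (by rw [card_Co0]; norm_num)
  refine multiplier_one fun p hp hdvd Γ _ _ σ hσ hexp => ?_
  rw [card_Co0] at hdvd
  rcases eq_or_ne p 2 with rfl | hp2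
  · have hc : Nat.card (⊤ : Subgroup Co0) = 8315553613086720000 :=
      (Nat.card_congr Subgroup.topEquiv.toEquiv).trans card_Co0
    let e : Co0 ≃* (⊤ : Subgroup Co0) := Subgroup.topEquiv.symm
    have hk : (e.toMonoidHom.comp σ).ker = σ.ker := MonoidHom.ker_comp_of_injective _ _ e.injective
    rw [← hk]
    exact ker_eq_bot_exact bitOps Co0Two.cert _ Nat.prime_two (fun τ h => ⟨bitEv _ τ h⟩)
      Co0Two.mods Co0Two.mats Co0Two.chain Co0Two.base_ok Co0Two.mats_ok Co0Two.rels_ok
      (by rw [hc]; decide +kernel) Co0Two.vecs Co0Two.loops_ok Co0Two.final_ok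
      ⟨e.surjective.comp hσ.1, hk.trans_le hσ.2.1, hk.trans_le hσ.2.2⟩ (fun x hx => hexp x (hk ▸ hx))
  · refine ker_eq_bot_of_quot toCo1 toCo1_surj (le_of_eq (QuotientGroup.ker_mk' _))
      (commutator_Co0_eq_top negCo0_mem_commutator) (m := 2) (fun x hx => ?_)
      ((Nat.coprime_primes hp Nat.prime_two).2 hp2) (fun Δ _ _ τ hτ he => ?_) hσ hexp
    · rw [QuotientGroup.ker_mk'] at hx
      have := pow_card_eq_one' (G := Subgroup.center Co0) (x := ⟨x, hx⟩)
      rw [card_center_Co0] at this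
      exact congrArg Subtype.val this
    · exact ker_co1_odd hp (prime_dvd_co0 hp hdvd hp2) hp2 hτ he

theorem multiplier_Co1 : Cfsg.HasCyclicSchurMultiplier (Co0 ⧸ Subgroup.center Co0) 2 := by
  haveI : Finite Co0 := Nat.finite_of_card_ne_zero (by rw [card_Co0]; norm_num)
  haveI : Fact (Nat.Prime 2) := ⟨Nat.prime_two⟩
  have hst : Cfsg.IsStemExtension toCo1 := by
    refine ⟨toCo1_surj, le_of_eq (QuotientGroup.ker_mk' _), ?_⟩
    rw [commutator_Co0_eq_top negCo0_mem_commutator]
    exact le_top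
  have hc : Nat.card toCo1.ker = 2 := by rw [QuotientGroup.ker_mk', card_center_Co0]
  exact CfsgLib.KnownA.hasCyclicSchurMultiplier_of_cover hst 2 hc (isCyclic_of_prime_card hc)
    multiplier_Co0

end CfsgLib.StructC.Conway
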